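import Cfsg.Agent.E82.Defs
import Cfsg.Agent.E8A.Fix.Main
import Cfsg.Agent.H413.L16.Br
import Cfsg.Agent.S1054

/-!
# S3369: the end games (helper92)

* `end_hfix` : `H` fixes no non-zero vector;
* `end_norm`, `end_fix` : nor does a normal subgroup of `H` whose index is a power of two;
* `end_kempf` : `H` stabilises no rational subspace of the nilradical of a Borel subalgebra;
* `end_tri` : the index of the socle divides six and the fixed subalgebra of the socle is not nilpotent of class two.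
-/

set_option autoImplicit false
set_option maxRecDepth 100000

namespace Cfsg.Agent.E82

open Cfsg Cfsg.Lie
open Cfsg.Agent.H939.L64 (KK E2 LK L2 em aK rE rE_apply rE_mul rE_one rE_inv_self rE_self_inv fixS rE_inj em_entry up fr brK
  rE_brK)
open Cfsg.Agent.E8A (act act_mul act_one act_add act_zero InN)

/-- a fixed vector over the algebraic closure gives a rational fixed vector -/
theorem descend {v : LK} (hv : v ≠ 0) : ∃ w : L2, w ≠ 0 ∧ ∀ g : E2, rE g v = v → act g w = w := by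
  obtain ⟨i, hi⟩ := Function.ne_iff.1 hv
  have h1 : ¬ ∀ φ : Module.Dual (ZMod 2) KK, φ (v i) = 0 := fun h =>
    hi ((Module.forall_dual_apply_eq_zero_iff (ZMod 2) (v i)).1 h)
  push Not at h1
  obtain ⟨φ, hφ⟩ := h1
  refine ⟨fun j => φ (v j), fun h => hφ (congrFun h i), fun g hg => ?_⟩
  funext j
  have h2 := congrFun hg j
  rw [rE_apply, aK, Matrix.mulVec, dotProduct] at h2
  show _ = φ (v j)
  rw [← h2, map_sum, act, Matrix.mulVec, dotProduct]
  refine Finset.sum_congr rfl fun k _ => ?_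
  rw [em_entry, ← Algebra.smul_def, map_smul, smul_eq_mul]

theorem up_act (g : E2) (w : L2) : up (act g w) = rE g (up w) := by
  funext j
  rw [rE_apply, aK, Matrix.mulVec, dotProduct, up, act, Matrix.mulVec, dotProduct, map_sum]
  refine Finset.sum_congr rfl fun k _ => ?_
  rw [em_entry, map_mul]
  rfl

theorem up_ne_zero {w : L2} (hw : w ≠ 0) : up w ≠ 0 := by
  intro h
  apply hw
  funext j
  have h1 : algebraMap (ZMod 2) KK (w j) = 0 := congrFun h j
  exact (algebraMap (ZMod 2) KK).injective (h1.trans (map_zero _).symm)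

theorem finite_E2 : Finite E2 := inferInstance

variable {S : Type} [Group S] {f : S →* E2} {H : Subgroup E2}

theorem Small.not_pgroup (hs : Small S) {p : ℕ} [Fact p.Prime] : ¬ IsPGroup p S := by
  intro h
  have := hs.fin
  have := hs.simple
  have h1 := h.center_nontrivial
  rcases (inferInstance : (Subgroup.center S).Normal).eq_bot_or_eq_top with h2 | h2
  · rw [h2] at h1
    exact not_nontrivial _ h1
  · obtain ⟨a, b, hab⟩ := hs.nonab
    have h3 : a ∈ Subgroup.center S := h2 ▸ Subgroup.mem_top a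
    exact hab (Subgroup.mem_center_iff.1 h3 b).symm

/-- no normal `p`-subgroup, no abelian normal subgroup -/
theorem Sit.no_normal (hS : Sit f H) (hs : Small S) {p : ℕ} [Fact p.Prime] {R : Subgroup E2} (h0 : R ≠ ⊥) (hR : R ≤ H)
    (hp : IsPGroup p ↥R ∨ ∀ x ∈ R, ∀ y ∈ R, x * y = y * x) (hn : ∀ h ∈ H, ∀ x ∈ R, h * x * h⁻¹ ∈ R) : False := by
  have := hs.simple
  have h1 := hS.le_of_normal h0 hR hn
  rcases hp with hp | hp
  · refine hs.not_pgroup (hp.of_injective (f.codRestrict R h1) fun a b hab => hS.inj ?_)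
    exact congrArg Subtype.val hab
  · obtain ⟨a, b, hab⟩ := hs.nonab
    apply hab
    apply hS.inj
    rw [map_mul, map_mul]
    exact hp _ (h1 a) _ (h1 b)

theorem Sit.end_hfix2 (hS : Sit f H) (hs : Small S) {w : L2} (hw : w ≠ 0) (h : ∀ g ∈ H, act g w = w) : False := by
  rcases Cfsg.Agent.E8A.line.{0} (ZMod 2) 2 H hS.co w hw (fun g hg => Or.inl (h g hg)) with
    ⟨R, h0, hR, hp, hn⟩ | ⟨h1, -⟩ | ⟨-, h1 | h1 | h1⟩
  · exact hS.no_normal hs h0 hR hp hn
  · exact h1 (Nat.card_zmod 2)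
  · exact hs.h31 (h1.trans hS.card_dvd)
  · exact hs.h127 (h1.trans hS.card_dvd)
  · exact hs.h24 (h1.trans hS.card_dvd)

/-- **`H` fixes no non-zero vector** -/
theorem Sit.end_hfix (hS : Sit f H) (hs : Small S) {v : LK} (hv : v ≠ 0) (h : ∀ g ∈ H, rE g v = v) : False := by
  obtain ⟨w, hw, h1⟩ := descend hv
  exact hS.end_hfix2 hs hw fun g hg => h1 g (h g hg)

/-- a `2`-group fixes a vector -/
theorem two_fix {G V : Type} [Group G] [Finite G] [AddCommGroup V] [Finite V] [Module (ZMod 2) V]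
    (ρ : Representation (ZMod 2) G V) (N : Subgroup G) (hN : N.Normal) {k : ℕ} (hk : N.index ∣ 2 ^ k) {w : V} (hw : w ≠ 0)
    (h : ∀ g ∈ N, ρ g w = w) : ∃ b : V, b ≠ 0 ∧ ∀ g, ρ g b = b := by
  classical
  have hmul : ∀ (a b : G) (x : V), ρ (a * b) x = ρ a (ρ b x) := fun a b x => by rw [map_mul]; rfl
  have hone : ∀ x : V, ρ 1 x = x := fun x => by rw [map_one]; rfl
  let C : AddSubgroup V :=
    { carrier := {x | ∀ g ∈ N, ρ g x = x}
      add_mem' := fun {a b} ha hb g hg => by rw [map_add, ha g hg, hb g hg]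
      zero_mem' := fun g _ => map_zero _
      neg_mem' := fun {a} ha g hg => by rw [map_neg, ha g hg] }
  have hwC : w ∈ C := h
  have hst : ∀ (g : G) (x : V), x ∈ C → ρ g x ∈ C := by
    intro g x hx n hn
    have h2 := hx _ (hN.conj_mem' n hn g)
    have e : n * g = g * (g⁻¹ * n * g) := by group
    rw [← hmul, e, hmul, h2]
  obtain ⟨P⟩ : Nonempty (Sylow 2 G) := inferInstance
  let _ : MulAction ↥(P : Subgroup G) ↥C :=
    { smul := fun g x => ⟨ρ (g : G) x, hst _ _ x.2⟩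
      one_smul := fun x => Subtype.ext (hone _)
      mul_smul := fun a b x => Subtype.ext (hmul _ _ _) }
  have h2 : 2 ∣ Nat.card ↥C := by
    have h3 : addOrderOf (⟨w, hwC⟩ : ↥C) = 2 := by
      refine addOrderOf_eq_prime ?_ fun h4 => hw (congrArg Subtype.val h4)
      apply Subtype.ext
      show 2 • w = 0
      rw [two_nsmul, ← two_smul (ZMod 2), show (2 : ZMod 2) = 0 from rfl, zero_smul]
    rw [← h3]
    exact addOrderOf_dvd_natCard _
  have h0 : (0 : ↥C) ∈ MulAction.fixedPoints ↥(P : Subgroup G) ↥C := fun g => Subtype.ext (map_zero (ρ (g : G)))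
  obtain ⟨b, hb, hb0⟩ := P.isPGroup'.exists_fixed_point_of_prime_dvd_card_of_fixed_point ↥C h2 h0
  let K : Subgroup G :=
    { carrier := {g | ρ g b = b}
      mul_mem' := fun {x y} hx hy => by
        show ρ (x * y) b = b
        rw [hmul, show ρ y b = b from hy, show ρ x b = b from hx]
      one_mem' := hone _
      inv_mem' := fun {x} hx => by
        show ρ x⁻¹ b = b
        conv_lhs => rw [← show ρ x b = b from hx]
        rw [← hmul, inv_mul_cancel, hone] }
  have hK1 : N ≤ K := fun g hg => b.2 g hg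
  have hK2 : (P : Subgroup G) ≤ K := fun g hg => congrArg Subtype.val (hb ⟨g, hg⟩)
  have h4 : K.index ∣ 2 ^ k := (Subgroup.index_dvd_of_le hK1).trans hk
  have h5 : ¬ 2 ∣ K.index := fun h6 => P.not_dvd_index (h6.trans (Subgroup.index_dvd_of_le hK2))
  obtain ⟨j, -, hj⟩ := (Nat.dvd_prime_pow Nat.prime_two).1 h4
  have h7 : K.index = 1 := by
    rcases j with _ | j
    · exact hj
    · exact absurd (hj ▸ dvd_pow_self 2 (Nat.succ_ne_zero j)) h5
  rw [Subgroup.index_eq_one] at h7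
  refine ⟨b, fun h8 => hb0 (Subtype.ext h8.symm), fun g => ?_⟩
  have h9 : g ∈ K := h7 ▸ Subgroup.mem_top _
  exact h9

/-- **a normal subgroup of `H` of `2`-power index fixes no non-zero vector** -/
theorem Sit.end_norm (hS : Sit f H) (hs : Small S) (N : Subgroup ↥H) (hN : N.Normal) {k : ℕ} (hk : N.index ∣ 2 ^ k)
    {v : LK} (hv : v ≠ 0) (h : ∀ g ∈ N, rE (g : E2) v = v) : False := by
  have hfin := finite_E2
  obtain ⟨w, hw, h1⟩ := descend hv
  obtain ⟨b, hb, h2⟩ := two_fix ((Cfsg.Agent.E8A.LK (ZMod 2)).comp H.subtype) N hN hk hw fun g hg => h1 _ (h g hg)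
  exact hS.end_hfix2 hs hb fun g hg => h2 ⟨g, hg⟩

/-- the socle as a subgroup of `H` -/
def Sit.soc (hS : Sit f H) : Subgroup ↥H := (f.codRestrict H hS.le).range

theorem Sit.mem_soc (hS : Sit f H) {g : ↥H} : g ∈ hS.soc ↔ ∃ s, f s = g :=
  ⟨fun ⟨s, h⟩ => ⟨s, congrArg Subtype.val h⟩, fun ⟨s, h⟩ => ⟨s, Subtype.ext h⟩⟩

theorem Sit.soc_normal (hS : Sit f H) : hS.soc.Normal := ⟨fun n hn g => by
  obtain ⟨s, h⟩ := hS.mem_soc.1 hn
  obtain ⟨τ, hτ⟩ := hS.nor g g.2
  exact hS.mem_soc.2 ⟨τ s, by rw [hτ, h]; rfl⟩⟩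

theorem Sit.card_soc (hS : Sit f H) : Nat.card ↥hS.soc = Nat.card S :=
  (Nat.card_congr (MonoidHom.ofInjective (f := f.codRestrict H hS.le)
    (fun _ _ h => hS.inj (congrArg Subtype.val h))).toEquiv).symm

theorem Sit.index_soc (hS : Sit f H) (hs : Small S) {m : ℕ} (hm : Nat.card (MulAut S) = Nat.card S * m) :
    hS.soc.index ∣ m := by
  have := hs.fin
  have h1 := hS.card_dvd
  rw [hm, ← hS.soc.card_mul_index, hS.card_soc] at h1
  exact Nat.dvd_of_mul_dvd_mul_left Nat.card_pos h1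

/-- **the socle fixes no non-zero vector** (the outer automorphism group is a `2`-group) -/
theorem Sit.end_fix (hS : Sit f H) (hs : Small S) (ho : Out2 S) (h : Fixd f) : False := by
  obtain ⟨k, hk⟩ := ho
  obtain ⟨v, hv, h1⟩ := h
  refine hS.end_norm hs hS.soc hS.soc_normal (hS.index_soc hs hk) hv fun g hg => ?_
  obtain ⟨s, h2⟩ := hS.mem_soc.1 hg
  rw [← h2, h1]

/-- a `2`-subgroup normalised by `H` is trivial -/
theorem Sit.no_local (hS : Sit f H) (hs : Small S) {p : ℕ} [Fact p.Prime] {R : Subgroup E2} (h0 : R ≠ ⊥)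
    (hp : IsPGroup p ↥R) (hn : ∀ h ∈ H, ∀ x ∈ R, h * x * h⁻¹ ∈ R) : False := by
  have hN : H ≤ Subgroup.normalizer (R : Set E2) := by
    intro h hh
    rw [Subgroup.mem_normalizer_iff]
    refine fun x => ⟨hn h hh x, fun hx => ?_⟩
    have h1 := hn _ (H.inv_mem hh) _ hx
    have e : h⁻¹ * (h * x * h⁻¹) * h⁻¹⁻¹ = x := by group
    rwa [e] at h1
  rcases eq_or_lt_of_le hN with h1 | h1
  · refine hS.no_normal hs h0 ?_ (Or.inl hp) hn
    rw [h1]
    exact Subgroup.le_normalizer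
  · have h2 := hS.co.2 _ h1
    have h3 : R.Normal := Subgroup.normalizer_eq_top_iff.1 h2
    have h4 := (Cfsg.Agent.S1054.result (F := ZMod 2) chevE8 (by simp)).1
    rcases h3.eq_bot_or_eq_top with h5 | h5
    · exact h0 h5
    · refine hs.not_pgroup (hp.of_injective (f.codRestrict R fun s => h5 ▸ Subgroup.mem_top _) fun a b hab => hS.inj ?_)
      exact congrArg Subtype.val hab

/-- **no stable rational subspace inside the nilradical of a Borel subalgebra** -/
theorem Sit.end_kempf (hS : Sit f H) (hs : Small S) {W : Submodule KK LK} (h0 : W ≠ ⊥) (hfr : ∀ w ∈ W, fr w ∈ W)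
    (hn : ∃ g : ↥(chevE8.group KK), ∀ w ∈ W, InN (aK g w)) (hH : ∀ h ∈ H, ∀ w ∈ W, rE h w ∈ W) : False := by
  obtain ⟨R, h1, h2, h3⟩ := Cfsg.Agent.E8A.Kem.kempf.{0} (ZMod 2) 2 W h0 (fun w hw => by
    have e : Cfsg.Agent.E8A.frq w = fr w := by
      funext i
      show w i ^ Nat.card (ZMod 2) = w i ^ 2
      rw [Nat.card_zmod]
    rw [e]
    exact hfr w hw) hn
  exact hS.no_local hs h1 h2 fun h hh => h3 h (hH h hh)

/-- a Lie algebra with a fixed point free automorphism of order three is nilpotent of class two -/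
theorem nil_of_fpf {C : Submodule KK LK} (hbr : ∀ x ∈ C, ∀ y ∈ C, brK x y ∈ C) {t : E2} (ht : ∀ x ∈ C, rE t x ∈ C)
    (h3 : ∀ x ∈ C, rE t (rE t (rE t x)) = x) (h0 : ∀ x ∈ C, rE t x = x → x = 0) {x y z : LK} (hx : x ∈ C) (hy : y ∈ C)
    (hz : z ∈ C) : brK (brK x y) z = 0 := by
  have h2 : (2 : KK) = 0 := CharTwo.two_eq_zero
  obtain ⟨ω, hω⟩ : ∃ ω : KK, ω ^ 2 + ω + 1 = 0 := by
    obtain ⟨ω, hω⟩ := IsAlgClosed.exists_root (Polynomial.X ^ 2 + Polynomial.X + 1 : Polynomial KK) (by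
      have : (Polynomial.X ^ 2 + Polynomial.X + 1 : Polynomial KK).degree = 2 := by compute_degree!
      rw [this]; decide)
    exact ⟨ω, by simpa using hω⟩
  have hsum : ∀ x ∈ C, rE t (rE t x) = rE t x + x := by
    intro x hx
    have h4 := h0 (rE t (rE t x) + rE t x + x) (C.add_mem (C.add_mem (ht _ (ht _ hx)) (ht _ hx)) hx) (by
      rw [map_add, map_add, h3 x hx]; abel)
    have h5 : rE t (rE t x) = rE t (rE t x) + rE t x + x + (rE t x + x) := by
      have h6 : (rE t x + x) + (rE t x + x) = 0 := by rw [← two_smul KK, h2, zero_smul]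
      rw [add_assoc (rE t (rE t x)), add_assoc, h6, add_zero]
    rw [h5, h4, zero_add]
  have hdec : ∀ x ∈ C, ∃ a ∈ C, ∃ b ∈ C, rE t a = ω • a ∧ rE t b = (ω ^ 2) • b ∧ x = a + b := by
    intro x hx
    refine ⟨rE t x + (ω ^ 2) • x, C.add_mem (ht _ hx) (C.smul_mem _ hx), rE t x + ω • x,
      C.add_mem (ht _ hx) (C.smul_mem _ hx), ?_, ?_, ?_⟩
    · rw [map_add, map_smul, hsum x hx]
      match_scalars
      · linear_combination hω - ω * h2
      · linear_combination (1 - ω) * hω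
    · rw [map_add, map_smul, hsum x hx]
      match_scalars
      · linear_combination hω - ω ^ 2 * h2
      · linear_combination (1 - ω) * hω
    · match_scalars
      · linear_combination (-1 : KK) * hω + h2
      · linear_combination (-1 : KK) * h2
  have hadd1 : ∀ u v w : LK, brK (u + v) w = brK u w + brK v w := Cfsg.Agent.H971.RV.br_add_left
  have hadd2 : ∀ u v w : LK, brK u (v + w) = brK u v + brK u w := Cfsg.Agent.H971.RV.br_add_right
  have hs1 : ∀ (c : KK) (v w : LK), brK (c • v) w = c • brK v w := Cfsg.Agent.H971.RV.br_smul_left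
  have hs2 : ∀ (c : KK) (v w : LK), brK v (c • w) = c • brK v w := Cfsg.Agent.H971.RV.br_smul_right
  have hz1 : ∀ w : LK, brK 0 w = 0 := fun w => by rw [← zero_smul KK (0 : LK), hs1, zero_smul, zero_smul]
  have hz2 : ∀ w : LK, brK w 0 = 0 := fun w => by rw [← zero_smul KK (0 : LK), hs2, zero_smul, zero_smul]
  have heig : ∀ (c d : KK) (a b : LK), rE t a = c • a → rE t b = d • b → rE t (brK a b) = (c * d) • brK a b := by
    intro c d a b ha hb
    rw [rE_brK, ha, hb, hs1, hs2, smul_smul]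
  have hω3 : ω * ω ^ 2 = 1 := by linear_combination (ω - 1) * hω
  have hzero : ∀ (c d : KK), c * d = 1 → ∀ a ∈ C, ∀ b ∈ C, rE t a = c • a → rE t b = d • b → brK a b = 0 := by
    intro c d hcd a ha b hb h4 h5
    refine h0 _ (hbr a ha b hb) ?_
    rw [heig c d a b h4 h5, hcd, one_smul]
  have key : ∀ (c d : KK), c * d = 1 → c * c * c = 1 → ∀ a ∈ C, ∀ b ∈ C, ∀ e ∈ C, ∀ g ∈ C, rE t a = c • a →
      rE t b = c • b → rE t e = c • e → rE t g = d • g → brK (brK a b) (e + g) = 0 := by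
    intro c d hcd hc a ha b hb e he g hg h4 h5 h6 h7
    have h8 := Cfsg.Agent.H413.L16.jac a b g
    rw [hzero c d hcd b hb g hg h5 h7, hzero c d hcd a ha g hg h4 h7, hz2, hz2, add_zero] at h8
    rw [hadd2, ← h8, add_zero]
    exact hzero (c * c) c hc _ (hbr a ha b hb) e he (heig c c a b h4 h5) h6
  obtain ⟨x1, hx1, x2, hx2, ex1, ex2, rfl⟩ := hdec x hx
  obtain ⟨y1, hy1, y2, hy2, ey1, ey2, rfl⟩ := hdec y hy
  obtain ⟨z1, hz1', z2, hz2', ez1, ez2, rfl⟩ := hdec z hz
  rw [hadd1, hadd2 x1, hadd2 x2, hzero _ _ hω3 x1 hx1 y2 hy2 ex1 ey2,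
    hzero _ _ (by rw [mul_comm]; exact hω3) x2 hx2 y1 hy1 ex2 ey1, add_zero, zero_add, hadd1,
    key ω (ω ^ 2) hω3 (by linear_combination hω3) x1 hx1 y1 hy1 z1 hz1' z2 hz2' ex1 ey1 ez1 ez2, zero_add, add_comm z1 z2]
  exact key (ω ^ 2) ω (by rw [mul_comm]; exact hω3) (by linear_combination (ω ^ 3 + 1) * hω3) x2 hx2 y2 hy2 z2 hz2' z1 hz1'
    ex2 ey2 ez2 ez1

theorem exists_three {G : Type} [Group G] [Finite G] (N : Subgroup G) [hN : N.Normal] (h6 : N.index ∣ 6) :
    N.index ∣ 2 ∨ ∃ (t : G) (K : Subgroup G), t ^ 3 ∈ N ∧ K.Normal ∧ K.index ∣ 2 ∧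
      ∀ g ∈ K, ∃ (n : ℕ), ∃ s ∈ N, g = s * t ^ n := by
  classical
  by_cases h3 : 3 ∣ N.index
  · right
    have : Fact (Nat.Prime 3) := ⟨Nat.prime_three⟩
    obtain ⟨q, hq⟩ := exists_prime_orderOf_dvd_card' (G := G ⧸ N) 3 h3
    obtain ⟨t, rfl⟩ := QuotientGroup.mk_surjective q
    have hi : ((Subgroup.zpowers (t : G ⧸ N)).comap (QuotientGroup.mk' N)).index ∣ 2 := by
      rw [Subgroup.index_comap_of_surjective _ (QuotientGroup.mk'_surjective N)]
      have h1 := (Subgroup.zpowers (t : G ⧸ N)).card_mul_index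
      rw [Nat.card_zpowers, hq] at h1
      have h2 : 3 * (Subgroup.zpowers (t : G ⧸ N)).index ∣ 3 * 2 := by rw [h1]; exact h6
      exact Nat.dvd_of_mul_dvd_mul_left (by norm_num) h2
    refine ⟨t, (Subgroup.zpowers (t : G ⧸ N)).comap (QuotientGroup.mk' N), ?_, ?_, hi, fun g hg => ?_⟩
    · rw [← QuotientGroup.eq_one_iff, QuotientGroup.mk_pow, ← hq, pow_orderOf_eq_one]
    · rcases (Nat.dvd_prime Nat.prime_two).1 hi with h1 | h1
      · rw [Subgroup.index_eq_one.1 h1]
        infer_instance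
      · exact Subgroup.normal_of_index_eq_two h1
    · rw [Subgroup.mem_comap, mem_zpowers_iff_mem_range_orderOf] at hg
      obtain ⟨n, -, hn⟩ := Finset.mem_image.1 hg
      refine ⟨n, g * (t ^ n)⁻¹, ?_, by rw [inv_mul_cancel_right]⟩
      rw [← QuotientGroup.eq_one_iff, QuotientGroup.mk_mul, QuotientGroup.mk_inv, QuotientGroup.mk_pow, hn]
      exact mul_inv_cancel _
  · left
    have h1 : Nat.Coprime N.index 3 := ((Nat.Prime.coprime_iff_not_dvd Nat.prime_three).2 h3).symm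
    exact h1.dvd_of_dvd_mul_right (show N.index ∣ 2 * 3 from h6)

/-- **triality** : the fixed subalgebra of the socle is nilpotent of class at most two -/
theorem Sit.end_tri (hS : Sit f H) (hs : Small S) (ho : Nat.card (MulAut S) = Nat.card S * 6) {x y z : LK}
    (hx : ∀ s, rE (f s) x = x) (hy : ∀ s, rE (f s) y = y) (hz : ∀ s, rE (f s) z = z) (hne : brK (brK x y) z ≠ 0) :
    False := by
  have hfin := finite_E2
  have hN := hS.soc_normal
  have hC : ∀ a ∈ fixS (rE.comp f), ∀ b ∈ fixS (rE.comp f), brK a b ∈ fixS (rE.comp f) := fun a ha b hb s => by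
    show rE (f s) (brK a b) = brK a b
    rw [rE_brK, mem_fix.1 ha s, mem_fix.1 hb s]
  have hsoc : ∀ v ∈ fixS (rE.comp f), ∀ g ∈ hS.soc, rE (g : E2) v = v := fun v hv g hg => by
    obtain ⟨s, h2⟩ := hS.mem_soc.1 hg
    rw [← h2, mem_fix.1 hv]
  rcases exists_three hS.soc (hS.index_soc hs ho) with h1 | ⟨t, K, h1, h2, h3, h4⟩
  · exact hS.end_norm hs hS.soc hN (k := 1) h1 hne (hsoc _ (hC _ (hC _ hx _ hy) _ hz))
  · refine hne (nil_of_fpf (t := (t : E2)) hC (fun v hv => hS.fix_stable t.2 hv) (fun v hv => ?_) (fun v hv h5 => ?_) hx hy hz)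
    · have h6 := hsoc v hv _ h1
      rwa [Subgroup.coe_pow, pow_succ, pow_succ, pow_one, rE_mul, rE_mul] at h6
    · by_contra h6
      refine hS.end_norm hs K h2 (k := 1) h3 h6 fun g hg => ?_
      obtain ⟨n, s, hs', rfl⟩ := h4 g hg
      have h7 : (t : E2) ^ n ∈ stabV v := (stabV v).pow_mem h5 n
      rw [Subgroup.coe_mul, rE_mul, Subgroup.coe_pow, mem_stabV.1 h7, hsoc v hv s hs']

end Cfsg.Agent.E82
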