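import Cfsg.Agent.E82.Asm
import Cfsg.Agent.LieClassical.OmegaCenter
import Cfsg.Agent.LieClassical.OmegaReindex
import Cfsg.Agent.S0245
import Cfsg.Agent.S0246
import Cfsg.Agent.S0270
import Cfsg.Agent.S0280
import Cfsg.Agent.S0283
import Cfsg.Agent.S0293
import Cfsg.Agent.S0296
import Cfsg.Agent.S0814
import Cfsg.Agent.S0815
import Cfsg.Agent.S0817

/-!
# S3369: the orders and the automorphism groups of the five groups (helper79, box `E82-SMALL`)
-/

set_option autoImplicit false

namespace Cfsg.Agent.E82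

open Cfsg

/-- a group with trivial centre is its central quotient -/
noncomputable def quoCen {S : Type} [Group S] (h : Subgroup.center S = ⊥) : S ⧸ Subgroup.center S ≃* S :=
  (QuotientGroup.quotientMulEquivOfEq h).trans QuotientGroup.quotientBot

theorem card_aut_congr {S T : Type} [Group S] [Group T] (e : S ≃* T) : Nat.card (MulAut S) = Nat.card (MulAut T) :=
  Nat.card_congr (MulAut.congr e).toEquiv

theorem nonab_of_card {S : Type} [Group S] [IsSimpleGroup S] (h : 4 ∣ Nat.card S) : ∃ a b : S, a * b ≠ b * a := by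
  by_contra hc
  push Not at hc
  have : IsMulCommutative S := ⟨⟨hc⟩⟩
  have hp : (Nat.card S).Prime := by
    let _ : CommGroup S := { (inferInstance : Group S) with mul_comm := hc }
    exact IsSimpleGroup.prime_card
  have h2 : 2 = Nat.card S := (Nat.prime_dvd_prime_iff_eq Nat.prime_two hp).1 (dvd_trans (by norm_num) h)
  rw [← h2] at h
  omega

theorem small_of {S : Type} [Group S] (hs : IsSimpleGroup S) {n k : ℕ} (hn : Nat.card S = n)
    (ha : Nat.card (MulAut S) = Nat.card S * k) (h0 : n ≠ 0) (h4 : 4 ∣ n) (h31 : ¬ 31 ∣ n * k) (h127 : ¬ 127 ∣ n * k)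
    (h24 : ¬ 2 ^ 24 ∣ n * k) : Small S where
  fin := Nat.finite_of_card_ne_zero (hn ▸ h0)
  simple := hs
  nonab := nonab_of_card (hn ▸ h4)
  h31 := by rwa [ha, hn]
  h127 := by rwa [ha, hn]
  h24 := by rwa [ha, hn]

section sp

variable {F : Type} [Field F] [Fintype F] {f : ℕ}

theorem center_sp (hF : Fintype.card F = 2 ^ f) (hf : 1 ≤ f) {m : ℕ} (hm : 1 ≤ m) :
    Subgroup.center ↥(Matrix.symplecticGroup (Fin m) F) = ⊥ := by
  have h := S0246.result hF m hm
  have h2 : Nat.gcd 2 (2 ^ f - 1) = 1 := by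
    obtain ⟨g, rfl⟩ := Nat.exists_eq_add_of_le hf
    have : 0 < 2 ^ g := by positivity
    refine (Nat.coprime_two_left.2 ?_)
    rw [pow_add, Nat.odd_iff]
    omega
  rw [h2] at h
  exact Subgroup.eq_bot_of_card_eq _ h

theorem simple_sp (hF : Fintype.card F = 2 ^ f) (hf : 1 ≤ f) {m : ℕ} (hm : 2 ≤ m) (h : m = 2 → 3 ≤ 2 ^ f) :
    IsSimpleGroup ↥(Matrix.symplecticGroup (Fin m) F) :=
  have := S0270.result (F := F) m hm (by rwa [hF])
  (quoCen (center_sp hF hf (by omega))).symm.isSimpleGroup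

theorem aut_sp (hF : Fintype.card F = 2 ^ f) (hf : 1 ≤ f) {m : ℕ} (hm : 2 ≤ m) (h : m = 2 → 3 ≤ 2 ^ f) :
    Nat.card (MulAut ↥(Matrix.symplecticGroup (Fin m) F)) =
      Nat.card ↥(Matrix.symplecticGroup (Fin m) F) * ((if m = 2 then 2 else 1) * Nat.gcd 2 (2 ^ f - 1) * f) := by
  have e := quoCen (center_sp hF hf (m := m) (by omega))
  rw [← card_aut_congr e, ← Nat.card_congr e.toEquiv, S0814.result 2 f hf hF m hm h, mul_comm]
  simp

end sp

theorem card_two : Fintype.card (ZMod 2) = 2 ^ 1 := rfl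

theorem card_Sp6 : Nat.card Sp6 = 1451520 := by
  rw [S0245.result card_two 3]
  decide

theorem card_Sp8 : Nat.card Sp8 = 47377612800 := by
  rw [S0245.result card_two 4]
  decide

theorem simple_Sp6 : IsSimpleGroup Sp6 := simple_sp card_two le_rfl (by norm_num) (by norm_num)

theorem simple_Sp8 : IsSimpleGroup Sp8 := simple_sp card_two le_rfl (by norm_num) (by norm_num)

theorem aut_Sp6 : Nat.card (MulAut Sp6) = Nat.card Sp6 * 1 := aut_sp card_two le_rfl (by norm_num) (by norm_num)

theorem aut_Sp8 : Nat.card (MulAut Sp8) = Nat.card Sp8 * 1 := aut_sp card_two le_rfl (by norm_num) (by norm_num)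

theorem small_Sp6 : Small Sp6 :=
  small_of simple_Sp6 card_Sp6 aut_Sp6 (by norm_num) (by norm_num) (by norm_num) (by norm_num) (by norm_num)

theorem small_Sp8 : Small Sp8 :=
  small_of simple_Sp8 card_Sp8 aut_Sp8 (by norm_num) (by norm_num) (by norm_num) (by norm_num) (by norm_num)

theorem out2_Sp6 : Out2 Sp6 := ⟨0, aut_Sp6⟩

theorem out2_Sp8 : Out2 Sp8 := ⟨0, aut_Sp8⟩

theorem center_O8 : Subgroup.center O8 = ⊥ := by
  have h := LieClassical.OmegaCenter.card_center_omega_two (F := ZMod 2) (by decide)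
    (LieClassical.OmegaReindex.quadPlus 4 (ZMod 2)) LieClassical.OmegaReindex.quadPlus_nondegenerate (by simp)
    (LieClassical.OmegaReindex.quadPlus_isotropic (by norm_num))
  rw [LieClassical.OmegaReindex.coe_quadPlus] at h
  exact Subgroup.eq_bot_of_card_eq _ h

theorem card_O8 : Nat.card O8 = 174182400 := by
  have h := S0293.result card_two 4 le_rfl
  rw [Nat.card_congr (quoCen center_O8).toEquiv, show Nat.gcd 4 ((2 ^ 1) ^ 4 - 1) = 1 by decide, one_mul] at h
  rw [h]
  decide

theorem simple_O8 : IsSimpleGroup O8 :=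
  have := S0296.result (F := ZMod 2) 4 le_rfl
  (quoCen center_O8).symm.isSimpleGroup

theorem aut_O8 : Nat.card (MulAut O8) = Nat.card O8 * 6 := by
  have e := quoCen center_O8
  rw [← card_aut_congr e, ← Nat.card_congr e.toEquiv, S0817.result 2 1 le_rfl card_two 4 le_rfl, mul_comm]
  simp

theorem small_O8 : Small O8 :=
  small_of simple_O8 card_O8 aut_O8 (by norm_num) (by norm_num) (by norm_num) (by norm_num) (by norm_num)

section four

variable {F : Type} [Field F] [Fintype F]

theorem card_Sp44 (hF : Fintype.card F = 4) : Nat.card (Sp44 F) = 979200 := by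
  rw [S0245.result hF 2]
  decide

theorem simple_Sp44 (hF : Fintype.card F = 4) : IsSimpleGroup (Sp44 F) :=
  simple_sp (f := 2) hF (by norm_num) le_rfl (by norm_num)

theorem aut_Sp44 (hF : Fintype.card F = 4) : Nat.card (MulAut (Sp44 F)) = Nat.card (Sp44 F) * 2 ^ 2 :=
  aut_sp (f := 2) hF (by norm_num) le_rfl (by norm_num)

theorem small_Sp44 (hF : Fintype.card F = 4) : Small (Sp44 F) :=
  small_of (simple_Sp44 hF) (card_Sp44 hF) (aut_Sp44 hF) (by norm_num) (by norm_num) (by norm_num) (by norm_num)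
    (by norm_num)

theorem out2_Sp44 (hF : Fintype.card F = 4) : Out2 (Sp44 F) := ⟨2, aut_Sp44 hF⟩

theorem card_U42 (hF : Fintype.card F = 4) : Nat.card (U42 F) = 25920 := by
  have h := S0280.result (q := 2) hF 4 (by norm_num)
  rw [show Nat.gcd 4 (2 + 1) = 1 by decide,
    show (∏ i ∈ Finset.range 4, (if Even i then 2 ^ (i + 1) + 1 else 2 ^ (i + 1) - 1)) = 1215 by decide] at h
  show Nat.card (PSU 4 F 2) = 25920
  omega

theorem simple_U42 (hF : Fintype.card F = 4) : IsSimpleGroup (U42 F) :=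
  S0283.result (q := 2) hF 4 (by norm_num) (by norm_num)

theorem aut_U42 (hF : Fintype.card F = 4) : Nat.card (MulAut (U42 F)) = Nat.card (U42 F) * 2 ^ 1 := by
  rw [S0815.result 2 1 le_rfl (q := 2) rfl hF 4 (by norm_num) (by norm_num), mul_comm]
  rfl

theorem small_U42 (hF : Fintype.card F = 4) : Small (U42 F) :=
  small_of (simple_U42 hF) (card_U42 hF) (aut_U42 hF) (by norm_num) (by norm_num) (by norm_num) (by norm_num)
    (by norm_num)

theorem out2_U42 (hF : Fintype.card F = 4) : Out2 (U42 F) := ⟨1, aut_U42 hF⟩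

end four

/-- the box `SMALL` -/
theorem small : SMALL := ⟨small_Sp6, small_Sp8, small_O8, fun _ _ _ hF => ⟨small_U42 hF, small_Sp44 hF⟩⟩

end Cfsg.Agent.E82
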