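import Cfsg.Agent.E82.Defs
import Cfsg.Agent.Lib.GenFitting
import Cfsg.Agent.ChevalleyStructure.FieldIso

/-!
# S3369: the assembly (helper92)
-/

set_option autoImplicit false
set_option maxRecDepth 100000

namespace Cfsg.Agent.E82

open Cfsg Cfsg.Lie
open Cfsg.Agent.H939.L64 (E2)

theorem exists_sit' {G S : Type} [Group G] [Finite G] [Group S] (hc : Subgroup.center S = ⊥) (H : Subgroup G)
    (e : ↥(generalizedFittingSubgroup ↥H) ≃* S) : ∃ f : S →* G, Function.Injective f ∧ (∀ s, f s ∈ H) ∧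
      (∀ h ∈ H, ∃ τ : S ≃* S, ∀ s, f (τ s) = h * f s * h⁻¹) ∧ ∀ g ∈ H, (∀ s, Commute g (f s)) → g = 1 := by
  have hN := Cfsg.Agent.Lib.GenFitting.genFitting_normal (G := ↥H)
  let f0 : S →* ↥H := (generalizedFittingSubgroup ↥H).subtype.comp e.symm.toMonoidHom
  have hf0 : ∀ s, f0 s = ((e.symm s : ↥(generalizedFittingSubgroup ↥H)) : ↥H) := fun _ => rfl
  have hinj : Function.Injective f0 := (Subgroup.subtype_injective _).comp e.symm.injective
  refine ⟨H.subtype.comp f0, (Subgroup.subtype_injective H).comp hinj, fun s => (f0 s).2, fun h hh => ?_, fun g hg hcm => ?_⟩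
  · refine ⟨(e.symm.trans (MulAut.conjNormal (⟨h, hh⟩ : ↥H))).trans e, fun s => ?_⟩
    show ((f0 (e (MulAut.conjNormal (⟨h, hh⟩ : ↥H) (e.symm s))) : ↥H) : G) = h * ((f0 s : ↥H) : G) * h⁻¹
    rw [hf0, MulEquiv.symm_apply_apply, MulAut.conjNormal_apply, hf0]
    rfl
  · have h1 : (⟨g, hg⟩ : ↥H) ∈ generalizedFittingSubgroup ↥H := by
      apply Cfsg.Agent.Lib.GenFitting.centralizer_genFitting_le
      rw [Subgroup.mem_centralizer_iff]
      intro s hs
      have h2 := (hcm (e ⟨s, hs⟩)).eq.symm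
      have h3 : (H.subtype.comp f0) (e ⟨s, hs⟩) = (s : G) := by
        show ((f0 (e ⟨s, hs⟩) : ↥H) : G) = s
        rw [hf0, MulEquiv.symm_apply_apply]
      rw [h3] at h2
      exact Subtype.ext h2
    have hz : f0 (e ⟨_, h1⟩) = ⟨g, hg⟩ := by rw [hf0, MulEquiv.symm_apply_apply]
    have h2 : e ⟨_, h1⟩ ∈ Subgroup.center S := by
      rw [Subgroup.mem_center_iff]
      intro s
      apply hinj
      rw [map_mul, map_mul, hz]
      exact Subtype.ext (hcm s).eq.symm
    rw [hc, Subgroup.mem_bot] at h2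
    rw [h2, map_one] at hz
    exact (congrArg Subtype.val hz).symm

theorem Small.center (S : Type) [Group S] (hs : Small S) : Subgroup.center S = ⊥ := by
  have := hs.simple
  rcases (inferInstance : (Subgroup.center S).Normal).eq_bot_or_eq_top with h2 | h2
  · exact h2
  · obtain ⟨a, b, hab⟩ := hs.nonab
    have h3 : a ∈ Subgroup.center S := h2 ▸ Subgroup.mem_top a
    exact absurd (Subgroup.mem_center_iff.1 h3 b).symm hab

theorem ROW.not_coatom {S : Type} [Group S] (h : ROW S) (hs : Small S) (H : Subgroup E2)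
    (e : ↥(generalizedFittingSubgroup ↥H) ≃* S) : ¬ IsCoatom H := by
  intro hco
  have : Finite E2 := inferInstance
  obtain ⟨f, h1, h2, h3, h4⟩ := exists_sit' (Small.center S hs) H e
  exact h f H ⟨hco, h1, h2, h3, h4⟩

theorem sp_mem {F K : Type*} [Field F] [Field K] (φ : F ≃+* K) {m : ℕ} (A : Matrix (Fin m ⊕ Fin m) (Fin m ⊕ Fin m) F)
    (hA : A ∈ Matrix.symplecticGroup (Fin m) F) : φ.mapMatrix A ∈ Matrix.symplecticGroup (Fin m) K := by
  rw [SymplecticGroup.mem_iff] at hA ⊢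
  have hJ : φ.mapMatrix (Matrix.J (Fin m) F) = Matrix.J (Fin m) K := by
    ext i j
    rcases i with i | i <;> rcases j with j | j <;> by_cases h : i = j <;> simp [Matrix.J, h]
  have hT : (φ.mapMatrix A).transpose = φ.mapMatrix A.transpose := rfl
  rw [← hJ, hT, ← map_mul, ← map_mul, hA]

/-- transport of the symplectic group -/
noncomputable def spMap {F K : Type*} [Field F] [Field K] (φ : F ≃+* K) (m : ℕ) :
    ↥(Matrix.symplecticGroup (Fin m) F) ≃* ↥(Matrix.symplecticGroup (Fin m) K) where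
  toFun := fun A => ⟨φ.mapMatrix A.1, sp_mem φ A.1 A.2⟩
  invFun := fun A => ⟨φ.symm.mapMatrix A.1, sp_mem φ.symm A.1 A.2⟩
  left_inv := fun A => Subtype.ext (by ext i j; simp)
  right_inv := fun A => Subtype.ext (by ext i j; simp)
  map_mul' := fun A B => Subtype.ext (map_mul φ.mapMatrix A.1 B.1)

/-- the facts on the five groups (box `E82-SMALL`) -/
def SMALL : Prop := Small Sp6 ∧ Small Sp8 ∧ Small O8 ∧
  ∀ (F : Type) [Field F] [Fintype F], Fintype.card F = 4 → Small (U42 F) ∧ Small (Sp44 F)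

/-- **the assembly** : the rows for `U₄(2)` and `Sp₄(4)` are needed for one field with four elements -/
theorem main (hs : SMALL) {F K : Type} [Field F] [Fintype F] (hF : Fintype.card F = 4) [Field K] [Fintype K]
    (hK : Fintype.card K = 4) (hU : ROW (U42 F)) (h6 : ROW Sp6) (hO : ROW O8) (h8 : ROW Sp8) (h4 : ROW (Sp44 K))
    (F₄ : Type*) [Field F₄] [Fintype F₄] (hF₄ : Fintype.card F₄ = 4)
    (H : Subgroup ↥(Cfsg.Lie.chevE8.group (ZMod 2)))
    (hH : Nonempty (Cfsg.generalizedFittingSubgroup H ≃* Cfsg.PSU 4 F₄ 2) ∨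
      Nonempty (Cfsg.generalizedFittingSubgroup H ≃* Matrix.symplecticGroup (Fin 3) (ZMod 2)) ∨
      Nonempty (Cfsg.generalizedFittingSubgroup H ≃* Cfsg.Omega (ZMod 2) (Cfsg.quadFormPlus 4 (ZMod 2))) ∨
      Nonempty (Cfsg.generalizedFittingSubgroup H ≃* Matrix.symplecticGroup (Fin 4) (ZMod 2)) ∨
      Nonempty (Cfsg.generalizedFittingSubgroup H ≃* Matrix.symplecticGroup (Fin 2) F₄)) :
    ¬ IsCoatom H := by
  obtain ⟨s6, s8, sO, s4⟩ := hs
  rcases hH with ⟨⟨e⟩⟩ | ⟨⟨e⟩⟩ | ⟨⟨e⟩⟩ | ⟨⟨e⟩⟩ | ⟨⟨e⟩⟩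
  · exact hU.not_coatom (s4 F hF).1 H (e.trans (Cfsg.Agent.ChevalleyStructure.FieldIso.PSUEquiv 4 2
      (FiniteField.ringEquivOfCardEq (hF₄.trans hF.symm))))
  · exact h6.not_coatom s6 H e
  · exact hO.not_coatom sO H e
  · exact h8.not_coatom s8 H e
  · exact h4.not_coatom (s4 K hK).2 H (e.trans (spMap (FiniteField.ringEquivOfCardEq (hF₄.trans hK.symm)) 2))

end Cfsg.Agent.E82
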