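import Cfsg.Agent.H939.L64.Base
import Cfsg.Agent.H955.L64.Irr
import Cfsg.Agent.H943.RepAdd
import Cfsg.Prelude.Def_Classical

/-!
# S3369: the situation, the rows, stabilisers (helper92)

* `Sit f H` : `H` is maximal in `E₈(2)`, `f` embeds `S` as a normal subgroup of `H` with trivial centraliser;
* `Fixd f` : the image of `f` fixes a non-zero vector of the adjoint module over the algebraic closure;
* `cf g` : the dimension of the fixed space of `g`;
* `ROW S` : the statement for one group; `Small S`, `Out2 S` : the facts on the automorphism group of `S`.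

The end games are in `E82/End.lean`, the assembly in `E82/Asm.lean`, the plan in `notes/E82/plan.md`.
-/

set_option autoImplicit false
set_option maxRecDepth 100000

namespace Cfsg.Agent.E82

open Cfsg Cfsg.Lie
open Cfsg.Agent.H939.L64 (KK E2 LK em aK rE rE_apply rE_mul rE_one rE_inv_self rE_self_inv rEq rEq_apply fixS
  rE_inj)
open Cfsg.Agent.H943.RepAdd (eig)

/-- the situation -/
structure Sit {S : Type} [Group S] (f : S →* E2) (H : Subgroup E2) : Prop where
  co : IsCoatom H
  inj : Function.Injective f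
  le : ∀ s, f s ∈ H
  nor : ∀ h ∈ H, ∃ τ : S ≃* S, ∀ s, f (τ s) = h * f s * h⁻¹
  tri : ∀ g ∈ H, (∀ s, Commute g (f s)) → g = 1

/-- the image fixes a non-zero vector -/
def Fixd {S : Type} [Group S] (f : S →* E2) : Prop := ∃ v : LK, v ≠ 0 ∧ ∀ s, rE (f s) v = v

/-- the dimension of the fixed space -/
noncomputable def cf (g : E2) : ℕ := Module.finrank KK (eig rE g 1)

/-- the statement for one group -/
def ROW (S : Type) [Group S] : Prop := ∀ (f : S →* E2) (H : Subgroup E2), Sit f H → False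

/-- the facts on `S` used in the end games -/
structure Small (S : Type) [Group S] : Prop where
  fin : Finite S
  simple : IsSimpleGroup S
  nonab : ∃ a b : S, a * b ≠ b * a
  h31 : ¬ 31 ∣ Nat.card (MulAut S)
  h127 : ¬ 127 ∣ Nat.card (MulAut S)
  h24 : ¬ 2 ^ 24 ∣ Nat.card (MulAut S)

/-- the outer automorphism group is a `2`-group -/
def Out2 (S : Type) [Group S] : Prop := ∃ k : ℕ, Nat.card (MulAut S) = Nat.card S * 2 ^ k

/-- `Sp₆(2)` -/
abbrev Sp6 : Type := ↥(Matrix.symplecticGroup (Fin 3) (ZMod 2))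

/-- `Sp₈(2)` -/
abbrev Sp8 : Type := ↥(Matrix.symplecticGroup (Fin 4) (ZMod 2))

/-- `Ω₈⁺(2)` -/
abbrev O8 : Type := ↥(Cfsg.Omega (ZMod 2) (Cfsg.quadFormPlus 4 (ZMod 2)))

/-- `Sp₄(4)` -/
abbrev Sp44 (F : Type) [Field F] : Type := ↥(Matrix.symplecticGroup (Fin 2) F)

/-- `U₄(2)` -/
abbrev U42 (F : Type) [Field F] : Type := Cfsg.PSU 4 F 2

/-- a row may be proved for any model of the group -/
theorem ROW.of_equiv {S S' : Type} [Group S] [Group S'] (e : S ≃* S') (h : ROW S) : ROW S' := by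
  intro f H hS
  refine h (f.comp e.toMonoidHom) H ⟨hS.co, hS.inj.comp e.injective, fun s => hS.le _, fun g hg => ?_, fun g hg hc => ?_⟩
  · obtain ⟨τ, hτ⟩ := hS.nor g hg
    refine ⟨(e.trans τ).trans e.symm, fun s => ?_⟩
    show f (e (e.symm (τ (e s)))) = g * f (e s) * g⁻¹
    rw [MulEquiv.apply_symm_apply, hτ]
  · refine hS.tri g hg fun s => ?_
    have := hc (e.symm s)
    rwa [MonoidHom.comp_apply, MulEquiv.coe_toMonoidHom, MulEquiv.apply_symm_apply] at this

section

variable {S : Type} [Group S] {f : S →* E2} {H : Subgroup E2}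

theorem mem_fix {v : LK} : v ∈ fixS (rE.comp f) ↔ ∀ s, rE (f s) v = v := Iff.rfl

/-- the fixed space of the socle is stable under `H` -/
theorem Sit.fix_stable (hS : Sit f H) {h : E2} (hh : h ∈ H) {v : LK} (hv : ∀ s, rE (f s) v = v) (s : S) :
    rE (f s) (rE h v) = rE h v := by
  obtain ⟨τ, hτ⟩ := hS.nor h hh
  have h1 : f s * h = h * f (τ.symm s) := by
    have := hτ (τ.symm s)
    rw [MulEquiv.apply_symm_apply] at this
    rw [this, inv_mul_cancel_right]
  rw [← rE_mul, h1, rE_mul, hv]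

theorem stab_inv {A : Submodule KK LK} {x : E2} (hx : ∀ v ∈ A, rE x v ∈ A) : ∀ v ∈ A, rE x⁻¹ v ∈ A := by
  intro v hv
  have h2 : A.map (rEq x).toLinearMap = A := by
    apply Submodule.eq_of_le_of_finrank_eq
    · rintro _ ⟨w, hw, rfl⟩
      exact hx w hw
    · exact LinearEquiv.finrank_map_eq (rEq x) A
  rw [← h2] at hv
  obtain ⟨w, hw, rfl⟩ := hv
  show rE x⁻¹ (rE x w) ∈ A
  rw [rE_inv_self]
  exact hw

/-- the stabiliser of a subspace -/
def stabS (A : Submodule KK LK) : Subgroup E2 where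
  carrier := {x | ∀ v ∈ A, rE x v ∈ A}
  mul_mem' := fun {a b} ha hb v hv => by rw [rE_mul]; exact ha _ (hb v hv)
  one_mem' := fun v hv => by rw [rE_one]; exact hv
  inv_mem' := fun ha => stab_inv ha

theorem mem_stabS {A : Submodule KK LK} {x : E2} : x ∈ stabS A ↔ ∀ v ∈ A, rE x v ∈ A := Iff.rfl

/-- the stabiliser of a vector -/
def stabV (v : LK) : Subgroup E2 where
  carrier := {x | rE x v = v}
  mul_mem' := fun {a b} ha hb => by
    show rE (a * b) v = v
    rw [rE_mul, show rE b v = v from hb, show rE a v = v from ha]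
  one_mem' := rE_one v
  inv_mem' := fun {a} ha => by
    show rE a⁻¹ v = v
    conv_lhs => rw [← show rE a v = v from ha]
    exact rE_inv_self a v

theorem mem_stabV {v : LK} {x : E2} : x ∈ stabV v ↔ rE x v = v := Iff.rfl

/-- a vector fixed by generators is fixed by the group -/
theorem fix_of_closure {X : Set S} (hX : Subgroup.closure X = ⊤) {v : LK} (h : ∀ x ∈ X, rE (f x) v = v) (s : S) :
    rE (f s) v = v := by
  have h1 : Subgroup.closure X ≤ (stabV v).comap f := (Subgroup.closure_le _).2 h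
  exact h1 (hX ▸ Subgroup.mem_top s)

/-- a subspace stable under generators is stable under the group -/
theorem stab_of_closure {X : Set S} (hX : Subgroup.closure X = ⊤) {A : Submodule KK LK}
    (h : ∀ x ∈ X, ∀ v ∈ A, rE (f x) v ∈ A) (s : S) : ∀ v ∈ A, rE (f s) v ∈ A := by
  have h1 : Subgroup.closure X ≤ (stabS A).comap f := (Subgroup.closure_le _).2 h
  exact h1 (hX ▸ Subgroup.mem_top s)

/-- **the stabiliser of a proper `H`-stable subspace is `H`** -/
theorem Sit.mem_of_stab (hS : Sit f H) {A : Submodule KK LK} (h0 : A ≠ ⊥) (h1 : A ≠ ⊤)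
    (hH : ∀ h ∈ H, ∀ v ∈ A, rE h v ∈ A) {g : E2} (hg : ∀ v ∈ A, rE g v ∈ A) : g ∈ H := by
  by_contra hgH
  have h2 : H < stabS A := by
    refine lt_of_le_of_ne hH fun h => hgH ?_
    rw [h]
    exact hg
  have h3 := hS.co.2 _ h2
  rcases Cfsg.Agent.H955.L64.IRR A (fun x v hv => (by rw [h3]; trivial : x ∈ stabS A) v hv) with h4 | h4
  · exact h0 h4
  · exact h1 h4

/-- **an element which fixes a non-zero `H`-stable subspace pointwise is in `H`** -/
theorem Sit.mem_of_fix (hS : Sit f H) {A : Submodule KK LK} (h0 : A ≠ ⊥) (hH : ∀ h ∈ H, ∀ v ∈ A, rE h v ∈ A) {g : E2}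
    (hg : ∀ v ∈ A, rE g v = v) : g ∈ H := by
  by_cases h1 : A = ⊤
  · have h2 : g = 1 := rE_inj fun v => hg v (h1 ▸ Submodule.mem_top)
    rw [h2]
    exact H.one_mem
  · exact hS.mem_of_stab h0 h1 hH fun v hv => by rw [hg v hv]; exact hv

/-- conjugation -/
theorem Sit.exists_hom (hS : Sit f H) : ∃ φ : ↥H →* MulAut S, Function.Injective φ ∧
    (∀ (h : ↥H) (s : S), f (φ h s) = h * f s * (h : E2)⁻¹) ∧ ∀ s : S, φ ⟨f s, hS.le s⟩ = MulAut.conj s := by
  choose τ hτ using hS.nor
  let φ : ↥H →* MulAut S := MonoidHom.mk' (fun h => τ h.1 h.2) fun a b => by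
    ext s
    apply hS.inj
    rw [MulAut.mul_apply, hτ, hτ, hτ, Subgroup.coe_mul]
    group
  have hφ : ∀ (h : ↥H) (s : S), f (φ h s) = h * f s * (h : E2)⁻¹ := fun h s => hτ h.1 h.2 s
  refine ⟨φ, (injective_iff_map_eq_one φ).2 fun h hh => Subtype.ext (hS.tri h.1 h.2 fun s => ?_), hφ, fun s => ?_⟩
  · have h1 := hφ h s
    rw [hh, MulAut.one_apply] at h1
    show (h : E2) * f s = f s * h
    conv_rhs => rw [h1]
    rw [inv_mul_cancel_right]
  · ext t
    apply hS.inj
    rw [hφ, MulAut.conj_apply, map_mul, map_mul, map_inv]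

/-- the order of `H` divides the order of the automorphism group -/
theorem Sit.card_dvd (hS : Sit f H) : Nat.card ↥H ∣ Nat.card (MulAut S) := by
  obtain ⟨φ, h1, -⟩ := hS.exists_hom
  exact Subgroup.card_dvd_of_injective φ h1

/-- a non-trivial normal subgroup of `H` contains the socle -/
theorem Sit.le_of_normal (hS : Sit f H) [IsSimpleGroup S] {R : Subgroup E2} (h0 : R ≠ ⊥) (hR : R ≤ H)
    (hn : ∀ h ∈ H, ∀ x ∈ R, h * x * h⁻¹ ∈ R) (s : S) : f s ∈ R := by
  have hN : (R.comap f).Normal := ⟨fun n hn' g => by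
    rw [Subgroup.mem_comap, map_mul, map_mul, map_inv]
    exact hn _ (hS.le g) _ hn'⟩
  rcases hN.eq_bot_or_eq_top with h1 | h1
  · exfalso
    apply h0
    rw [eq_bot_iff]
    intro x hx
    rw [Subgroup.mem_bot]
    refine hS.tri x (hR hx) fun t => ?_
    obtain ⟨τ, hτ⟩ := hS.nor x (hR hx)
    have h2 : τ t * t⁻¹ ∈ R.comap f := by
      rw [Subgroup.mem_comap, map_mul, hτ, map_inv]
      have h3 := R.mul_mem hx (hn _ (hS.le t) _ (R.inv_mem hx))
      have e : x * f t * x⁻¹ * (f t)⁻¹ = x * (f t * x⁻¹ * (f t)⁻¹) := by group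
      rwa [e]
    rw [h1, Subgroup.mem_bot, mul_inv_eq_one] at h2
    have h4 := hτ t
    rw [h2] at h4
    show x * f t = f t * x
    conv_rhs => rw [h4]
    rw [inv_mul_cancel_right]
  · have : s ∈ R.comap f := h1 ▸ Subgroup.mem_top s
    exact this

end

end Cfsg.Agent.E82
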