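import Cfsg.Agent.H259.L34.Dim
import Cfsg.Agent.E82.Defs

/-!
# S3369: the dimensions of the fixed spaces of the elements of order 3, 5, 9, 15, 17 of `E₈(2)` (helper39)

* `cf x` : the dimension of the fixed space on `LK`; `fd_two` : the same over the field with two elements;
* `fd3 fd5 fd9 fd15 fd17` : the values; `par` : the parallelogram law for commuting elements of order three.
-/

set_option autoImplicit false
set_option linter.unusedSectionVars false
set_option maxRecDepth 100000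

namespace Cfsg.Agent.E82

open Cfsg Cfsg.Lie
open Cfsg.Agent.H939.L64 Cfsg.Agent.H413.L64 Cfsg.Agent.H259.L34
open Cfsg.Agent.H943.RepAdd (eig mem_eig)
open Cfsg.Agent.H943.E8Tab (R8 th8 vecOf)
open Cfsg.Agent.H944.RootVals Cfsg.Agent.H944.Kac Cfsg.Agent.H944.Tab
open Cfsg.Agent.H942.E8Tab (e8T)
open Cfsg.Agent.Tits.Roots Cfsg.Agent.H129.TorusChar Cfsg.Agent.BpExc.TorChev Cfsg.Agent.Nodes.BNOf

theorem fd_two (x : E2) (T : L2 →ₗ[ZMod 2] L2) (hT : ∀ v, T v = a2 x v) :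
    Module.finrank (ZMod 2) (LinearMap.ker (T - LinearMap.id)) = cf x := fin2 x T hT

theorem mem_eig1 {x : E2} {v : LK} : v ∈ eig rE x 1 ↔ rE x v = v := by rw [mem_eig, one_smul]

theorem fd_one : cf 1 = 248 := by
  have h : eig rE (1 : E2) 1 = ⊤ := by
    rw [eq_top_iff]
    intro v _
    rw [mem_eig1, rE_one]
  unfold cf
  rw [h, finrank_top, finrank_LK]

theorem fd_inv (x : E2) : cf x⁻¹ = cf x := by
  have h : eig rE x⁻¹ 1 = eig rE x 1 := by
    ext v
    rw [mem_eig1, mem_eig1]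
    constructor
    · intro h
      conv_lhs => rw [← h]
      exact rE_self_inv x v
    · intro h
      conv_lhs => rw [← h]
      exact rE_inv_self x v
  unfold cf
  rw [h]

theorem fd_conj (g x : E2) : cf (g * x * g⁻¹) = cf x := by
  have h : eig rE (g * x * g⁻¹) 1 = (eig rE x 1).map (rEq g).toLinearMap := by
    ext v
    rw [mem_eig1, Submodule.mem_map]
    constructor
    · intro h
      refine ⟨rE g⁻¹ v, ?_, rE_self_inv g v⟩
      have e : x * g⁻¹ = g⁻¹ * (g * x * g⁻¹) := by group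
      rw [mem_eig1, ← rE_mul, e, rE_mul, h]
    · rintro ⟨w, hw, hv⟩
      rw [mem_eig1] at hw
      have hv' : rE g w = v := hv
      rw [← hv', rE_mul, rE_inv_self, rE_mul, hw]
  unfold cf
  rw [h]
  exact LinearEquiv.finrank_map_eq _ _

theorem fd3 {x : E2} (hx : x ^ 3 = 1) (h1 : x ≠ 1) : cf x = 134 ∨ cf x = 92 ∨ cf x = 86 ∨ cf x = 80 := eig3 hx h1

theorem fd5 {x : E2} (hx : x ^ 5 = 1) (h1 : x ≠ 1) : cf x = 68 ∨ cf x = 48 := eig5 hx h1

/-! ### powers -/

section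

variable {N : ℕ} [NeZero N]

theorem tor_pow {x : E2} {v : Fin 8 → ZMod N} {ζ : KK} (h : TorZ x N v ζ) (k : ℕ) :
    TorZ (x ^ k) N (fun i => (k : ZMod N) * v i) ζ := by
  obtain ⟨hζ, z, t, hz, ht, hv⟩ := h
  refine ⟨hζ, z, t ^ k, ?_, pow_mem ht k, fun i => ?_⟩
  · have h1 : z⁻¹ * em x * z = z⁻¹ * em x * z⁻¹⁻¹ := by rw [inv_inv]
    rw [← hz, h1, conj_pow, inv_inv, map_pow]
  · rw [cX_pow e8T ht, hv, ← pow_mul, pow_val hζ]
    congr 2
    push_cast
    rw [ZMod.natCast_zmod_val, mul_comm]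

theorem vecOf_mul (k : ℕ) (Y : List ℕ) : vecOf N (Y.map (k * ·)) = fun i => (k : ZMod N) * vecOf N Y i := by
  funext i
  unfold vecOf
  have h : (Y.map (k * ·)).getD i 0 = k * Y.getD i 0 := by
    have := List.getD_map (l := Y) (d := 0) (n := i) (k * ·)
    rwa [Nat.mul_zero] at this
  rw [h]
  push_cast
  rfl

theorem fd_alc {x : E2} {Y : List ℕ} {ζ : KK} (h : TorZ x N (vecOf N Y) ζ) (k : ℕ) :
    cf (x ^ k) = cz N (Y.map (k * ·)) 0 + 8 := by
  have h1 := tor_pow h k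
  rw [← vecOf_mul] at h1
  unfold cf
  rw [fix_eq h1, cntE, if_pos rfl, count_vecOf]

theorem eq_one_of_tor {x : E2} {ζ : KK} {v : Fin 8 → ZMod N} (h : TorZ x N v ζ) (hv0 : v = 0) : x = 1 := by
  obtain ⟨hζ, z, t, hz, ht, hv⟩ := h
  have h2 : t = 1 := cX_inj e8T ht (one_mem _) fun i => by
    rw [hv i, cX_one, hv0, Pi.zero_apply, ZMod.val_zero, pow_zero]
  rw [h2] at hz
  apply em_injective
  rw [map_one]
  have h3 : em x = z * (z⁻¹ * em x * z) * z⁻¹ := by group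
  rw [h3, hz]
  group

end

/-- all the entries are multiples of `d` -/
def mulOf (d : ℕ) (y : List ℕ) : Bool := y.all fun a => a % d == 0

theorem vec_zero {N d k : ℕ} (hN : N = k * d) {Y : List ℕ} (h : mulOf d Y = true) :
    (fun i => (k : ZMod N) * vecOf N Y i) = 0 := by
  funext i
  unfold vecOf
  have h1 : d ∣ Y.getD i 0 := by
    by_cases hi : (i : ℕ) < Y.length
    · rw [List.getD_eq_getElem _ _ hi]
      have := List.all_eq_true.1 h _ (List.getElem_mem hi)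
      rw [beq_iff_eq] at this
      exact Nat.dvd_of_mod_eq_zero this
    · rw [List.getD_eq_default _ _ (not_lt.1 hi)]
      exact dvd_zero d
  obtain ⟨c, hc⟩ := h1
  rw [hc, ← Nat.cast_mul, ← mul_assoc, ← hN, Nat.cast_mul, ZMod.natCast_self, zero_mul]
  rfl

/-- the doubling test -/
def dbl (N : ℕ) (y : List ℕ) : Bool := (List.range N).all fun a => cz N y (a : ℕ) == cz N y (2 * (a : ℕ))

theorem dbl_of {N : ℕ} {y : List ℕ} (h : ∀ a, cz N y a = cz N y (2 * a) ∨ ¬ IsUnit (2 : ZMod N))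
    (hu : IsUnit (2 : ZMod N)) : dbl N y = true := by
  unfold dbl
  rw [List.all_eq_true]
  intro a _
  rw [beq_iff_eq]
  exact (h a).resolve_right (not_not.2 hu)

theorem chk9 : allAlc th8 9 (fun y => mulOf 3 y || !(dbl 9 y) || 3 * qf (vecOf 9 y) != 0 ||
    (cz 9 (y.map (3 * ·)) 0 == 78 && (cz 9 (y.map (1 * ·)) 0 == 20 || cz 9 (y.map (1 * ·)) 0 == 40 ||
      cz 9 (y.map (1 * ·)) 0 == 26 || cz 9 (y.map (1 * ·)) 0 == 22))) = true := by decide +kernel

/-- **order 9** -/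
theorem fd9 {x : E2} (hx : x ^ 9 = 1) (h1 : x ^ 3 ≠ 1) :
    cf (x ^ 3) = 86 ∧ (cf x = 28 ∨ cf x = 48 ∨ cf x = 34 ∨ cf x = 30) := by
  obtain ⟨ζ, v, h⟩ := exists_tor (N := 9) (by decide) hx
  obtain ⟨Y, hYl, hYθ, -, hT, hfr, -⟩ := alc h (fun h0 => h1 (by rw [h0, one_pow]))
  have h2 := allAlc_spec th8 9 _ (by decide) chk9 Y hYl hYθ
  have h3 := dbl_of hfr (by decide)
  have h4 := three_qf hT
  have h5 : mulOf 3 Y = false := by
    by_contra h5
    rw [Bool.not_eq_false] at h5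
    exact h1 (eq_one_of_tor (tor_pow hT 3) (vec_zero (N := 9) (k := 3) rfl h5))
  have e1 := fd_alc hT 1
  have e3 := fd_alc hT 3
  rw [pow_one] at e1
  simp only [h3, h4, h5, Bool.or_eq_true, Bool.and_eq_true, beq_iff_eq, bne_iff_ne, ne_eq, not_true_eq_false,
    Bool.not_true, Bool.false_eq_true, false_or] at h2
  omega

/-- the three dimensions of an element of order 15 -/
def t15 (y : List ℕ) : ℕ × ℕ × ℕ :=
  (cz 15 (y.map (1 * ·)) 0 + 8, cz 15 (y.map (3 * ·)) 0 + 8, cz 15 (y.map (5 * ·)) 0 + 8)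

/-- the list : `cf x`, `cf (x ^ 3)`, `cf (x ^ 5)` -/
def L15 : List (ℕ × ℕ × ℕ) :=
  [(48, 68, 92), (24, 68, 92), (16, 48, 80), (28, 68, 80), (20, 48, 92), (34, 68, 134), (26, 68, 86)]

theorem chk15 : allAlc th8 15 (fun y => mulOf 3 y || mulOf 5 y || 3 * qf (vecOf 15 y) != 0 || !(dbl 15 y) ||
    L15.contains (t15 y)) = true := by decide +kernel

/-- **order 15** -/
theorem fd15 {x : E2} (hx : x ^ 15 = 1) (h3 : x ^ 3 ≠ 1) (h5 : x ^ 5 ≠ 1) : (cf x, cf (x ^ 3), cf (x ^ 5)) ∈ L15 := by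
  obtain ⟨ζ, v, h⟩ := exists_tor (N := 15) (by decide) hx
  obtain ⟨Y, hYl, hYθ, -, hT, hfr, -⟩ := alc h (fun h0 => h3 (by rw [h0, one_pow]))
  have h2 := allAlc_spec th8 15 _ (by decide) chk15 Y hYl hYθ
  have a3 := dbl_of hfr (by decide)
  have a4 := three_qf hT
  have a5 : mulOf 3 Y = false := by
    by_contra a5
    rw [Bool.not_eq_false] at a5
    exact h5 (eq_one_of_tor (tor_pow hT 5) (vec_zero (N := 15) (k := 5) rfl a5))
  have a6 : mulOf 5 Y = false := by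
    by_contra a6
    rw [Bool.not_eq_false] at a6
    exact h3 (eq_one_of_tor (tor_pow hT 3) (vec_zero (N := 15) (k := 3) rfl a6))
  have e1 := fd_alc hT 1
  have e3 := fd_alc hT 3
  have e5 := fd_alc hT 5
  rw [pow_one] at e1
  simp only [a3, a4, a5, a6, Bool.or_eq_true, bne_iff_ne, ne_eq, not_true_eq_false,
    Bool.not_true, Bool.false_eq_true, false_or, List.contains_iff_mem] at h2
  rw [e1, e3, e5]
  exact h2

theorem chk17 : allAlc th8 17 (fun y => y == [0, 0, 0, 0, 0, 0, 0, 0] || 3 * qf (vecOf 17 y) != 0 || !(dbl 17 y) ||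
    cz 17 (y.map (1 * ·)) 0 == 8 || cz 17 (y.map (1 * ·)) 0 == 24) = true := by decide +kernel

/-- **order 17** -/
theorem fd17 {x : E2} (hx : x ^ 17 = 1) (h1 : x ≠ 1) : cf x = 16 ∨ cf x = 32 := by
  obtain ⟨ζ, v, h⟩ := exists_tor (N := 17) (by decide) hx
  obtain ⟨Y, hYl, hYθ, hY0, hT, hfr, -⟩ := alc h h1
  have h2 := allAlc_spec th8 17 _ (by decide) chk17 Y hYl hYθ
  have a3 := dbl_of hfr (by decide)
  have a4 := three_qf hT
  have e1 := fd_alc hT 1
  rw [pow_one] at e1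
  simp only [a3, a4, hY0, Bool.or_eq_true, beq_iff_eq, bne_iff_ne, ne_eq, not_true_eq_false,
    Bool.not_true, Bool.false_eq_true, false_or] at h2
  omega

/-! ### the parallelogram law -/

/-- the value of the quadratic form of an element of order dividing three, from the dimension -/
def qe (d : ℕ) : ZMod 3 := if d = 248 ∨ d = 86 then 0 else if d = 92 then 2 else 1

theorem qf_tor {x : E2} {v : Fin 8 → ZMod 3} {ζ : KK} (h : TorZ x 3 v ζ) : qf v = qe (cf x) := by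
  by_cases h1 : x = 1
  · have h0 : TorZ x 3 0 ζ := by
      refine ⟨h.1, 1, 1, by rw [h1, map_one]; group, one_mem _, fun i => ?_⟩
      rw [cX_one, Pi.zero_apply, ZMod.val_zero, pow_zero]
    rw [qf_unique h h0, h1, fd_one]
    decide
  · have h2 := cnt3 h h1
    rw [qf3 h h1]
    unfold cf
    rw [fix_eq h]
    rcases h2 with h2 | h2 | h2 | h2 <;> rw [h2] <;> rfl

/-- **the parallelogram law** -/
theorem par {a b : E2} (ha : a ^ 3 = 1) (hb : b ^ 3 = 1) (hc : Commute a b) :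
    qe (cf (a * b)) + qe (cf (a * b⁻¹)) = 2 * (qe (cf a) + qe (cf b)) := by
  obtain ⟨ζ, hζ⟩ := exists_zeta 3 (by decide)
  obtain ⟨u, v, h⟩ := Cfsg.Agent.H544.L34.exists_pairZ hζ ha hb hc
  have e : b⁻¹ = b * b := by
    rw [inv_eq_iff_mul_eq_one, ← hb, pow_succ', pow_two]
  rw [e, ← qf_tor (h.tor1 hζ), ← qf_tor (h.tor2 hζ), ← qf_tor ((h.mul hζ).tor2 hζ),
    ← qf_tor (((h.sq hζ).mul hζ).tor2 hζ)]
  exact qf_par u v

end Cfsg.Agent.E82
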